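import Groth.Agent.BertiniAff.Main
import Groth.Agent.BertiniLib.Scheme
import Groth.Agent.PlaneTwistLib.Smooth
import Groth.Agent.IdealStalkLib.Comap

/-!
# Bertini for hyperplane sections of smooth projective varieties
-/

set_option autoImplicit false
set_option backward.isDefEq.respectTransparency false
set_option backward.isDefEq.respectTransparency.types false
set_option linter.style.haveILetI false
set_option maxHeartbeats 800000

universe u

open CategoryTheory CategoryTheory.Limits AlgebraicGeometry TopologicalSpace Opposite MvPolynomial HomogeneousLocalization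
open Groth.Agent.AmpleEmb Groth.Agent.AmpleLib Groth.Agent.ParaFLib

noncomputable section

namespace Groth.Agent.BertiniProjLib

variable {k : Type u} [Field k]

/-- The affine case. -/
theorem exists_poly_smooth [Infinite k] {A : Type u} [CommRing A] [Algebra k A] [Algebra.Smooth k A]
    (hdom : Nontrivial A → IsDomain A) {n : ℕ} (x : Fin n → A)
    (hx : Function.Surjective (MvPolynomial.aeval x : MvPolynomial (Fin n) k →ₐ[k] A)) :
    ∃ g : MvPolynomial (Fin (n + 1)) k, g ≠ 0 ∧ ∀ b : Fin (n + 1) → k, MvPolynomial.eval b g ≠ 0 →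
      Algebra.Smooth k (A ⧸ Ideal.span {algebraMap k A (b 0) + ∑ i : Fin n, algebraMap k A (b i.succ) * x i}) := by
  haveI : Algebra.FiniteType k A := Algebra.FiniteType.of_surjective _ hx
  obtain ⟨r, hdim⟩ : ∃ r : ℕ, ∀ P ∈ minimalPrimes A, ringKrullDim (A ⧸ P) = r := by
    rcases subsingleton_or_nontrivial A with hA | hA
    · exact ⟨0, fun P hP => absurd (Subsingleton.elim P ⊤) hP.1.1.ne_top⟩
    · haveI := hdom hA
      have h0 : (0 : WithBot ℕ∞) ≤ ringKrullDim A := ringKrullDim_nonneg_of_nontrivial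
      have h1 : ringKrullDim A ≤ n := by
        refine (ringKrullDim_le_of_surjective _ hx).trans ?_
        rw [MvPolynomial.ringKrullDim_of_isNoetherianRing, ringKrullDim_eq_zero_of_field]
        simp
      obtain ⟨e, he⟩ : ∃ e : ℕ, ringKrullDim A = e := by
        generalize ringKrullDim A = d at h0 h1
        match d, h0, h1 with
        | ⊥, h0, _ => exact absurd h0 (by simp)
        | (⊤ : ℕ∞), _, h1 => exact absurd (WithBot.coe_le_coe.1 h1) (by simp)
        | ((e : ℕ) : ℕ∞), _, _ => exact ⟨e, rfl⟩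
      refine ⟨e, fun P hP => ?_⟩
      rw [IsDomain.minimalPrimes_eq_singleton_bot, Set.mem_singleton_iff] at hP
      subst hP
      rw [ringKrullDim_eq_of_ringEquiv (RingEquiv.quotientBot A), he]
  obtain ⟨g, hg0, hg⟩ := BertiniAff.bertini k x hx hdim
  refine ⟨g, hg0, fun b hb => ?_⟩
  let B := A ⧸ Ideal.span {algebraMap k A (b 0) + ∑ i : Fin n, algebraMap k A (b i.succ) * x i}
  haveI : Algebra.FinitePresentation k B := Algebra.FinitePresentation.of_finiteType.1 inferInstance
  refine ⟨Algebra.smoothLocus_eq_univ_iff.1 (Set.eq_univ_of_forall fun q => ?_), inferInstance⟩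
  obtain ⟨f, hf, hsm⟩ := hg b hb q.asIdeal q.2 ⟨1, fun h1 => q.2.ne_top ((Ideal.eq_top_iff_one _).2 (by
      simpa using h1)), (HasRingHomProperty.Spec_iff (P := @Smooth)).2 (by
      haveI : Algebra.Smooth A (Localization.Away (1 : A)) := Algebra.Smooth.of_isLocalization_Away 1
      haveI : Algebra.Smooth k (Localization.Away (1 : A)) := Algebra.Smooth.comp k A _
      rw [CommRingCat.hom_ofHom]
      exact RingHom.smooth_algebraMap.2 inferInstance)⟩
  haveI := hsm
  haveI hs' : Smooth (Spec.map (CommRingCat.ofHom (algebraMap k (Localization.Away f)))) :=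
    SmoothOfRelativeDimension.smooth (r - 1) _
  have h' := (HasRingHomProperty.Spec_iff (P := @Smooth)).1 hs'
  rw [CommRingCat.hom_ofHom] at h'
  exact Algebra.basicOpen_subset_smoothLocus_iff_smooth.2 (RingHom.smooth_algebraMap.1 h')
    (show q ∈ PrimeSpectrum.basicOpen f from hf)

variable (k) (n : ℕ)

/-- The dehomogenized linear form. -/
def lin (j : Fin (n + 1)) (a : Fin (n + 1) → k) : MvPolynomial (Fin n) k :=
  ∑ i, C (a i) * PicProjLib.dehomVec n k j i

theorem lin_eq (j : Fin (n + 1)) (a : Fin (n + 1) → k) :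
    lin k n j a = C (a j) + ∑ i : Fin n, C (a (j.succAbove i)) * X i := by
  rw [lin, Fin.sum_univ_succAbove _ j]
  simp [PicProjLib.dehomVec]

variable {k n} {X : Scheme.{u}} (ι : X ⟶ CohB1.ProjSpace n k)

/-- A chart. -/
abbrev U (j : Fin (n + 1)) : X.Opens := ι ⁻¹ᵁ stdOpen n k j

/-- The coordinate map of a chart. -/
def π (j : Fin (n + 1)) : MvPolynomial (Fin n) k →+* Γ(X, U ι j) :=
  (ι.app (stdOpen n k j)).hom.comp (PicProjLib.chartEquiv n k j).toRingHom

theorem π_surjective [IsClosedImmersion ι] (j : Fin (n + 1)) : Function.Surjective (π ι j) :=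
  (ι.app_surjective _ (isAffineOpen_stdOpen n k j)).comp (PicProjLib.chartEquiv n k j).surjective

theorem isAffineOpen_U [IsClosedImmersion ι] (j : Fin (n + 1)) : IsAffineOpen (U ι j) :=
  (isAffineOpen_stdOpen n k j).preimage ι

theorem exists_mem_U (x : X) : ∃ j, x ∈ U ι j := by
  obtain ⟨j, hj⟩ := Opens.mem_iSup.1 ((iSup_stdOpen n k).ge (Opens.mem_top (ι.base x)))
  exact ⟨j, hj⟩

theorem chartEquiv_C (j : Fin (n + 1)) (r : k) : PicProjLib.chartEquiv n k j (C r) =
    (CohB1.ProjSpace n k).presheaf.map (homOfLE (le_top : stdOpen n k j ≤ ⊤)).op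
      (Coh.toGlobal (CohB1.ProjSpace.toSpec n k) r) := by
  show Proj.awayToSection (CohB1.polyGrading n k) (MvPolynomial.X j) (PicProjLib.polyToAway n k j (C r)) = _
  rw [show PicProjLib.polyToAway n k j (C r) =
      ProjCoh.awayConst (CohB1.polyGrading n k) (MvPolynomial.X j : MvPolynomial (Fin (n + 1)) k) r from eval₂Hom_C _ _ r,
    ← ProjCoh.φV_projφ (CohB1.polyGrading n k) (ProjMap.X_mem (R := k) j) one_pos r]
  rfl

theorem π_C (j : Fin (n + 1)) : (π ι j).comp C =
    (X.presheaf.map (homOfLE (le_top : U ι j ≤ ⊤)).op).hom.comp (Coh.toGlobal (ι ≫ CohB1.ProjSpace.toSpec n k)) := by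
  refine RingHom.ext fun r => ?_
  show ι.app _ (PicProjLib.chartEquiv n k j (C r)) = _
  rw [chartEquiv_C]
  exact ConcreteCategory.congr_hom (ι.naturality (homOfLE (le_top : stdOpen n k j ≤ ⊤)).op)
    (Coh.toGlobal (CohB1.ProjSpace.toSpec n k) r)

theorem smooth_chart [IsClosedImmersion ι] [Smooth (ι ≫ CohB1.ProjSpace.toSpec n k)] (j : Fin (n + 1)) :
    ((π ι j).comp C).Smooth := by
  have hV := isAffineOpen_U ι j
  have h : Smooth (hV.fromSpec ≫ ι ≫ CohB1.ProjSpace.toSpec n k) := inferInstance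
  rw [PlaneTwistLib.fromSpec_comp _ hV, HasRingHomProperty.Spec_iff (P := @Smooth), CommRingCat.hom_ofHom] at h
  rw [π_C]
  exact h

/-- The good hyperplanes. -/
theorem exists_good [Infinite k] [IsIntegral X] [IsClosedImmersion ι] [Smooth (ι ≫ CohB1.ProjSpace.toSpec n k)] :
    ∃ g : MvPolynomial (Fin (n + 1)) k, g ≠ 0 ∧ ∀ a : Fin (n + 1) → k, MvPolynomial.eval a g ≠ 0 →
      (∀ j, ((Ideal.Quotient.mk (Ideal.span {π ι j (lin k n j a)})).comp ((π ι j).comp C)).Smooth) ∧
      ∃ j, genericPoint X ∈ U ι j ∧ π ι j (lin k n j a) ≠ 0 := by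
  classical
  have hloc : ∀ j, ∃ g : MvPolynomial (Fin (n + 1)) k, g ≠ 0 ∧ ∀ a : Fin (n + 1) → k, MvPolynomial.eval a g ≠ 0 →
      ((Ideal.Quotient.mk (Ideal.span {π ι j (lin k n j a)})).comp ((π ι j).comp C)).Smooth := by
    intro j
    letI : Algebra k Γ(X, U ι j) := ((π ι j).comp C).toAlgebra
    haveI : Algebra.Smooth k Γ(X, U ι j) := RingHom.smooth_algebraMap.1 (smooth_chart ι j)
    let x : Fin n → Γ(X, U ι j) := fun i => π ι j (MvPolynomial.X i)
    have hx : ∀ p, MvPolynomial.aeval x p = π ι j p := DFunLike.congr_fun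
      (MvPolynomial.ringHom_ext (f := (MvPolynomial.aeval x : MvPolynomial (Fin n) k →ₐ[k] _).toRingHom) (g := π ι j)
        (fun r => by simp [RingHom.algebraMap_toAlgebra]) fun i => by simp [x])
    have hdom : Nontrivial Γ(X, U ι j) → IsDomain Γ(X, U ι j) := fun _ => by
      haveI : Nonempty (U ι j) := by
        by_contra hne
        have e : U ι j = ⊥ := Opens.ext (Set.eq_empty_of_forall_notMem fun y hy => hne ⟨⟨y, hy⟩⟩)
        have : Subsingleton Γ(X, U ι j) := by
          rw [e]; exact CommRingCat.subsingleton_of_isTerminal X.sheaf.isTerminalOfEmpty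
        exact not_subsingleton _ this
      infer_instance
    obtain ⟨g, hg0, hg⟩ := exists_poly_smooth hdom x (fun y => by
      obtain ⟨p, hp⟩ := π_surjective ι j y
      exact ⟨p, (hx p).trans hp⟩)
    let σ : Fin (n + 1) → Fin (n + 1) := Fin.cases j j.succAbove
    have hσ : Function.Injective σ := by
      intro u v huv
      cases u using Fin.cases with
      | zero => cases v using Fin.cases with
        | zero => rfl
        | succ v => exact absurd huv (by simpa [σ] using (Fin.succAbove_ne j v).symm)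
      | succ u => cases v using Fin.cases with
        | zero => exact absurd huv (by simpa [σ] using Fin.succAbove_ne j u)
        | succ v => exact congrArg Fin.succ (Fin.succAbove_right_injective (p := j) (show j.succAbove u = j.succAbove v from huv))
    refine ⟨rename σ g, fun h => hg0 (rename_injective σ hσ (h.trans (map_zero _).symm)), fun a ha => ?_⟩
    rw [eval_rename] at ha
    have e : π ι j (lin k n j a) =
        algebraMap k _ ((a ∘ σ) 0) + ∑ i : Fin n, algebraMap k _ ((a ∘ σ) i.succ) * x i := by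
      rw [lin_eq, map_add, map_sum]
      simp [σ, x, RingHom.algebraMap_toAlgebra]
    rw [e]
    exact RingHom.smooth_algebraMap.2 (hg (a ∘ σ) ha)
  choose g hg0 hg using hloc
  obtain ⟨j, hj⟩ := exists_mem_U ι (genericPoint X)
  haveI : Nonempty (U ι j) := ⟨⟨_, hj⟩⟩
  letI : Algebra k Γ(X, U ι j) := ((π ι j).comp C).toAlgebra
  obtain ⟨φ, hφ⟩ := Module.Projective.exists_dual_ne_zero k (one_ne_zero : (1 : Γ(X, U ι j)) ≠ 0)
  let c : Fin (n + 1) → k := fun i => φ (π ι j (PicProjLib.dehomVec n k j i))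
  let g₀ : MvPolynomial (Fin (n + 1)) k := ∑ i, C (c i) * MvPolynomial.X i
  have hg₀ : ∀ a, MvPolynomial.eval a g₀ = φ (π ι j (lin k n j a)) := by
    intro a
    simp only [g₀, lin, map_sum, map_mul, eval_C, eval_X]
    refine Finset.sum_congr rfl fun i _ => ?_
    rw [show π ι j (C (a i)) * π ι j (PicProjLib.dehomVec n k j i) = a i • π ι j (PicProjLib.dehomVec n k j i)
      from (Algebra.smul_def (A := Γ(X, U ι j)) (a i) _).symm, map_smul, smul_eq_mul, mul_comm]
  have hne : g₀ ≠ 0 := by
    intro h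
    have h1 := hg₀ (Pi.single j 1)
    rw [h, map_zero, lin_eq] at h1
    refine hφ (Eq.trans ?_ h1.symm)
    congr 1
    simp [Fin.succAbove_ne]
  refine ⟨g₀ * ∏ j, g j, mul_ne_zero hne (Finset.prod_ne_zero_iff.2 fun i _ => hg0 i), fun a ha => ?_⟩
  rw [map_mul, map_prod, mul_ne_zero_iff] at ha
  refine ⟨fun i => hg i a (Finset.prod_ne_zero_iff.1 ha.2 i (Finset.mem_univ _)), j, hj, fun h => ha.1 ?_⟩
  rw [hg₀, h, map_zero]

end Groth.Agent.BertiniProjLib
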